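import Groth.Agent.Lib.SurfInt.NefInt
import Groth.Agent.Lib.SurfInt.Surface
import Groth.Agent.Lib.TensorMod.TensorInv
import Groth.Agent.Lib.PicGen.Descend
import Groth.Agent.H4.SepDivisor
import Groth.Agent.H25.Multi.CurveStalk
import Groth.Agent.Lib.ModelFibre.IdealPull
import Groth.Agent.Lib.Ideal.Comap
import Groth.Agent.Lib.Ideal.EffCartier
import Groth.Agent.H75.RedKer

/-!
# Fibres of a fibration of a surface over a curve have nonnegative degree on curves
-/

set_option autoImplicit false
set_option linter.style.haveILetI false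
universe u

open CategoryTheory CategoryTheory.Limits AlgebraicGeometry TopologicalSpace

namespace Groth.Agent.Lib.FibreInt

open Groth.Agent.Lib Groth.Agent.Lib.SurfInt

noncomputable section

/-- An invertible module becomes trivial along a morphism into a small neighbourhood of a point. -/
theorem pullback_trivial {E Y : Scheme.{u}} (g : E ⟶ Y) {M : Y.Modules} (hM : PicF.IsInvertible M)
    (y : Y) (hg : ∀ e, g e = y) :
    Nonempty ((Scheme.Modules.pullback g).obj M ≅ Coh.structureModule E) := by
  obtain ⟨U, hy, ⟨i⟩⟩ := hM y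
  have hsub : Set.range g ⊆ Set.range U.ι := by
    rw [Scheme.Opens.range_ι]; rintro _ ⟨e, rfl⟩; rw [hg e]; exact hy
  let g' := IsOpenImmersion.lift U.ι g hsub
  have hg' : g' ≫ U.ι = g := IsOpenImmersion.lift_fac _ _ hsub
  exact ⟨(Scheme.Modules.pullbackCongr hg').symm.app M ≪≫ ((Scheme.Modules.pullbackComp g' U.ι).app M).symm ≪≫
    (Scheme.Modules.pullback g').mapIso (((Scheme.Modules.restrictFunctorIsoPullback U.ι).app M).symm ≪≫ i) ≪≫
    PicLoc.pullbackStructureIso g'⟩

/-- An effective Cartier ideal not containing the image of the generic point pulls back well. -/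
theorem nonempty_pullback_idealMod_of_not_mem {X Y : Scheme.{u}} [IsIntegral X] (g : X ⟶ Y)
    {J : Y.IdealSheafData} (hJ : BlowUp.IsEffCartierIdeal J)
    (hgen : genericPoint X ∉ ((J.comap g).support : Set X)) :
    BlowUp.IsEffCartierIdeal (J.comap g) ∧
      Nonempty ((Scheme.Modules.pullback g).obj (_root_.ClSub.idealMod J) ≅ _root_.ClSub.idealMod (J.comap g)) := by
  suffices H : ∀ (U : Y.affineOpens) (s : Γ(Y, U.1)), s ∈ nonZeroDivisors Γ(Y, U.1) →
      J.ideal U = _root_.Ideal.span {s} → ∀ z (hz : z ∈ g ⁻¹ᵁ U.1),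
        X.presheaf.germ _ z hz (g.app U.1 s) ∈ nonZeroDivisors (X.presheaf.stalk z) from
    ⟨Lib.Ideal.EffCartier.isEffCartier_comap g hJ H, ModelFibre.IdealPull.nonempty_pullback_idealMod g hJ H⟩
  intro U s _ hs z hz
  refine mem_nonZeroDivisors_of_ne_zero fun h0 => hgen ?_
  have h1 : g.app U.1 s = 0 := by
    refine germ_injective_of_isIntegral X z hz ?_
    rw [map_zero]; exact h0
  obtain ⟨V, hV, hzV, hVU⟩ := exists_isAffineOpen_mem_and_subset (U := g ⁻¹ᵁ U.1) (x := z) hz
  have hJ' : (J.comap g).ideal ⟨V, hV⟩ = ⊥ := by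
    rw [Lib.Ideal.Comap.ideal_comap _ _ U ⟨V, hV⟩ hVU, hs, _root_.Ideal.map_span, Set.image_singleton,
      _root_.Ideal.span_singleton_eq_bot, Scheme.Hom.appLE, CommRingCat.hom_comp, RingHom.comp_apply,
      h1, map_zero]
  have hgV : genericPoint X ∈ (V : Set X) :=
    ((genericPoint_spec X).mem_open_set_iff V.2).2 ⟨z, trivial, hzV⟩
  have hsupp := Scheme.IdealSheafData.coe_support_inter (J.comap g) ⟨V, hV⟩
  rw [hJ'] at hsupp
  exact (hsupp.ge ⟨by simp [Scheme.zeroLocus], hgV⟩).1

/-- The fibre over a closed point of the base curve has degree zero or more on every curve. -/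
theorem intNum_fibre_nonpos {k : Type u} [Field k]
    {S : Scheme.{u}} [S.Over (Spec (CommRingCat.of k))] [IsProper (S ↘ Spec (CommRingCat.of k))]
    [Smooth (S ↘ Spec (CommRingCat.of k))] [IsIntegral S] [IsNoetherian S]
    (hdim : topologicalKrullDim S = 2)
    {C : Scheme.{u}} [C.Over (Spec (CommRingCat.of k))] [IsProper (C ↘ Spec (CommRingCat.of k))]
    [Smooth (C ↘ Spec (CommRingCat.of k))] [IsIntegral C] (hdimC : topologicalKrullDim C = 1)
    (f : S ⟶ C) (hf : Function.Surjective f) (p : C) (hp : IsClosed ({p} : Set C))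
    {LF : S.Modules} (hLF : ClSub.IsInverseOf LF (ClSub.idealMod (f.fiberι p).ker))
    (Γ : S.IdealSheafData) [IsIntegral Γ.subscheme] (hΓd : topologicalKrullDim (Γ.support : Set S) = 1) :
    FGA.intNum k S 2 ![ClSub.idealMod Γ, LF] (Coh.structureModule S) ≤ 0 := by
  haveI : IsLocallyNoetherian C := LocallyOfFiniteType.isLocallyNoetherian (C ↘ Spec (CommRingCat.of k))
  have hfin := Snapper.Finite.cohFinite k S
  have hreg := NegDef.regular_of_smooth (k := k) (X := S)
  have hregC := NegDef.regular_of_smooth (k := k) (X := C)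
  have hequi : ∀ Z ∈ irreducibleComponents (C : Type u), topologicalKrullDim Z = 1 := by
    intro Z hZ
    rw [irreducibleComponents_eq_singleton, Set.mem_singleton_iff] at hZ
    subst hZ
    rw [← hdimC]
    exact IsHomeomorph.topologicalKrullDim_eq _ (Homeomorph.Set.univ C).isHomeomorph
  let P : C.IdealSheafData := Scheme.IdealSheafData.vanishingIdeal ⟨{p}, hp⟩
  have hP : BlowUp.IsEffCartierIdeal P := H4.SepDivisor.isEffCartier_vanishingIdeal _
    (fun y hy _ => by
      obtain rfl : y = p := hy
      exact H25.Multi.CurveStalk.ringKrullDim_stalk C hequi y hp) hregC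
  haveI : IsClosedImmersion (C.fromSpecResidueField p) := isClosed_singleton_iff_isClosedImmersion.mp hp
  have hker : (C.fromSpecResidueField p).ker = P := by
    rw [H75.RedKer.ker_eq_vanishingIdeal]
    congr 1
    ext1
    simp only [Scheme.range_fromSpecResidueField, hp.closure_eq]
  have hJ : (f.fiberι p).ker = P.comap f := by
    rw [← hker]
    exact Scheme.IdealSheafData.ker_fst_of_isClosedImmersion (C.fromSpecResidueField p) f
  have hη : f (genericPoint S) = genericPoint C := PicGen.Descend.map_genericPoint f hf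
  have hgen : genericPoint S ∉ ((P.comap f).support : Set S) := by
    intro h
    have h' : f (genericPoint S) = p := by
      rw [Scheme.IdealSheafData.support_comap] at h
      exact h
    have hall : ∀ c : C, c = p := fun c => by
      have := (genericPoint_specializes c).mem_closed hp (hη.symm.trans h')
      exact this
    haveI : Subsingleton C := ⟨fun a b => (hall a).trans (hall b).symm⟩
    have := H25.Multi.CurveStalk.ringKrullDim_stalk C hequi p hp
    rw [ringKrullDim_stalk_eq_coheight] at this
    have h0 : Order.coheight p = 0 := Order.coheight_eq_zero.mpr fun b _ => (Subsingleton.elim p b).ge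
    rw [h0] at this
    exact absurd this (by decide)
  obtain ⟨hJc, ⟨eJ⟩⟩ := nonempty_pullback_idealMod_of_not_mem f hP hgen
  obtain ⟨e⟩ := hLF
  have hLF' : PicF.IsInvertible LF := TensorMod.TensorInv.isInvertible_of_tensor_iso e
  have hΓI := Effective.isInvertible_idealMod (NegDef.isEff hfin hdim hreg Γ hΓd)
  have hPI := ClSub.Cartier.isInvertible_idealMod hP
  have hJI : PicF.IsInvertible (_root_.ClSub.idealMod (f.fiberι p).ker) := by
    exact TensorMod.TensorInv.isInvertible_of_tensor_iso (TensorMod.Basic.comm _ _ ≪≫ e)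
  by_cases hsub : (Γ.support : Set S) ⊆ f ⁻¹' {p}
  · have hzero : ∀ N : S.Modules, PicF.IsInvertible N →
        Nonempty ((Scheme.Modules.pullback Γ.subschemeι).obj N ≅ Coh.structureModule Γ.subscheme) →
        FGA.intNum k S 2 ![ClSub.idealMod Γ, N] (Coh.structureModule S) = 0 := by
      rintro N hN ⟨i⟩
      letI := Surface.overSub (k := k) Γ
      rw [Surface.intNum_ideal_eq_neg_deg hfin hdim.le hΓI hN, Curves.Euler.deg_eq_of_iso i 1]
      simp [Curv2.deg]
    have hconst : ∀ z, (Γ.subschemeι ≫ f) z = p := fun z => by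
      rw [Scheme.Hom.comp_apply]
      exact hsub (Γ.range_subschemeι.le (Set.mem_range_self z))
    obtain ⟨i⟩ := pullback_trivial (Γ.subschemeι ≫ f) hPI p hconst
    have h1 : FGA.intNum k S 2 ![ClSub.idealMod Γ, ClSub.idealMod (f.fiberι p).ker] (Coh.structureModule S) = 0 :=
      hzero _ hJI ⟨(Scheme.Modules.pullback Γ.subschemeι).mapIso (eqToIso (by rw [hJ]) ≪≫ eJ.symm) ≪≫
        (Scheme.Modules.pullbackComp Γ.subschemeι f).app _ ≪≫ i⟩
    have h2 : FGA.intNum k S 2 ![ClSub.idealMod Γ, Coh.structureModule S] (Coh.structureModule S) = 0 :=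
      hzero _ (PicLoc.isInvertible_structureModule S) ⟨PicLoc.pullbackStructureIso _⟩
    rw [Snapper.IntNum.intNum_pair_comm] at h1 h2 ⊢
    rw [← NegDef.intNum_congr_left e, Snapper.IntNum.intNum_pair_tensor_left hfin hdim.le hLF' hJI hΓI
      (Snapper.Twist.isCoh_structureModule S)] at h2
    linarith
  · have hJeff : FGA.IsEffCartier (f.fiberι p).ker := by
      rw [hJ]
      exact hJc
    have h1 : 0 ≤ FGA.intNum k S 2 ![ClSub.idealMod Γ, ClSub.idealMod (f.fiberι p).ker] (Coh.structureModule S) := by
      refine Surface.intNum_nonneg hfin hdim hreg Γ hΓd hJeff ?_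
      rw [hJ, Scheme.IdealSheafData.support_comap]
      exact hsub
    have h2 : FGA.intNum k S 2 ![Coh.structureModule S, ClSub.idealMod Γ] (Coh.structureModule S) = 0 := by
      have h := Snapper.IntNum.intNum_pair_tensor_left hfin hdim.le (PicLoc.isInvertible_structureModule S)
        (PicLoc.isInvertible_structureModule S) hΓI (Snapper.Twist.isCoh_structureModule S)
      rw [NegDef.intNum_congr_left (TensorMod.Basic.leftUnit (Coh.structureModule S))] at h
      linarith
    rw [Snapper.IntNum.intNum_pair_comm] at h1 ⊢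
    rw [← NegDef.intNum_congr_left e, Snapper.IntNum.intNum_pair_tensor_left hfin hdim.le hLF' hJI hΓI
      (Snapper.Twist.isCoh_structureModule S)] at h2
    linarith

end

end Groth.Agent.Lib.FibreInt
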